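import Cfsg.Agent.Helper28.He1.Facts0
import Cfsg.Agent.Helper28.He1.Facts1
import Cfsg.Agent.Helper28.He1.Facts2
import Cfsg.Agent.Helper28.He1.Facts3
import Cfsg.Agent.Helper28.He1.Misc
import Cfsg.Agent.Helper28.He1.Perm0
import Cfsg.Agent.Helper28.He1.Perm1
import Cfsg.Agent.Helper28.He1.Perm2
set_option autoImplicit false
namespace Cfsg.Agent.Helper28.He1
open Cfsg.Agent.Helper28
theorem perm_all : ∀ r, 7 ≤ r → r < 60 → relOk ptabs (tabs.word r) 0 ptabs.n = true := by
  intro r h1 h2
  by_cases c7 : r < 30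
  · exact permRange_sound ptabs tabs.word letTr.get 12 4095 perm_eq 7 23 perm_ok_7 r (by omega) (by omega)
  by_cases c30 : r < 53
  · exact permRange_sound ptabs tabs.word letTr.get 12 4095 perm_eq 30 23 perm_ok_30 r (by omega) (by omega)
  by_cases c53 : r < 60
  · exact permRange_sound ptabs tabs.word letTr.get 12 4095 perm_eq 53 7 perm_ok_53 r (by omega) (by omega)
  omega
theorem subfix_all : ∀ r, r < 7 → relOk ptabs (tabs.word r) 0 1 = true := allLt_sound _ _ subfix_ok
def factBounds : List Nat := [0, 6270, 12540, 18810, 25080]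
end Cfsg.Agent.Helper28.He1
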