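import Cfsg.Agent.Helper28.He1.All
import Cfsg.Agent.Helper28.He1.Orb
import Cfsg.Prelude.Def_Spor_He
set_option autoImplicit false
set_option maxRecDepth 1000000
namespace Cfsg.Agent.Helper28.He1
open Cfsg.Agent.Helper28 Cfsg.Spor

/-- generator with a given index -/
def gen : Nat → He.Gen
  | 0 => .a | 1 => .b | 2 => .c | 3 => .d | 4 => .e | 5 => .f | _ => .g

/-- index of a generator -/
def idx : He.Gen → Nat
  | .a => 0 | .b => 1 | .c => 2 | .d => 3 | .e => 4 | .f => 5 | .g => 6

/-- the subgroup generators -/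
def Ylist : List (FreeGroup He.Gen) := [He.a, He.c, He.d, He.e, He.f, (He.a * He.b) ^ 2, (He.b * He.c * He.d * He.e) ^ 7]

theorem hY_ok : ∀ s, s < tabs.nsub → ev gen 7 (tabs.word s) = Ylist.getD s 1 := by
  decide +kernel

theorem hcoxw_ok : ∀ ix, ix < 7 → ∀ iy, iy < 7 →
    tabs.word (tabs.nsub + ix * 7 + iy) = coxW ix iy (lab He.edges gen ix iy) := by
  decide +kernel

theorem hextra_ok : ∀ j, j < He.extra.length →
    ev gen 7 (tabs.word (tabs.nsub + 7 * 7 + j)) = He.extra.getD j 1 := by
  decide +kernel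

theorem htriv_ok : ∀ l, l < 2 * 7 →
    tabs.word (tabs.nsub + 7 * 7 + He.extra.length + l) = [l, flipL l] := by
  decide +kernel

theorem hletters_ok : ∀ r, r < tabs.nwords → ∀ l ∈ tabs.word r, l < ptabs.L := by
  decide +kernel

theorem layout : Layout He.edges He.extra Ylist gen idx 7 tabs ptabs where
  hngen := by decide
  hgi := by intro a; cases a <;> exact ⟨by decide, rfl⟩
  hig := by decide
  hnsub := by decide +kernel
  hY := hY_ok
  hcoxw := hcoxw_ok
  hextra := hextra_ok
  htriv := htriv_ok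
  hempty := by decide +kernel
  hnwords := by decide +kernel
  hL := by decide +kernel
  hletters := hletters_ok

/-- the relators -/
abbrev R : Set (FreeGroup He.Gen) := coxRels He.edges He.extra
/-- the subgroup generators as a set -/
abbrev Y : Set (FreeGroup He.Gen) := {y | y ∈ Ylist}

theorem facts_to (k kend : Nat) (vs : List Nat) (hc : checkChunks tabs vs k kend = true)
    (hk : ∀ f, f < k → VF (HH R Y) (gG R gen 7) tabs f) :
    ∀ f, f < kend → VF (HH R Y) (gG R gen 7) tabs f :=
  facts_part R Y gen 7 tabs layout.hngen defs_ok layout.hYw layout.hrelw vs k kend hc hk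

theorem facts_0 : ∀ f, f < 0 → VF (HH R Y) (gG R gen 7) tabs f :=
  fun f hf => absurd hf (Nat.not_lt_zero f)
theorem facts_upto0 : ∀ f, f < 6270 → VF (HH R Y) (gG R gen 7) tabs f :=
  facts_to _ _ _ facts_ok0 facts_0
theorem facts_upto1 : ∀ f, f < 12540 → VF (HH R Y) (gG R gen 7) tabs f :=
  facts_to _ _ _ facts_ok1 facts_upto0
theorem facts_upto2 : ∀ f, f < 18810 → VF (HH R Y) (gG R gen 7) tabs f :=
  facts_to _ _ _ facts_ok2 facts_upto1
theorem facts_upto3 : ∀ f, f < 25080 → VF (HH R Y) (gG R gen 7) tabs f :=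
  facts_to _ _ _ facts_ok3 facts_upto2

theorem hperm_all : ∀ r, tabs.nsub ≤ r → r < tabs.nsub + 7 * 7 + He.extra.length →
    relOk ptabs (tabs.word r) 0 ptabs.n = true := by
  intro r h1 h2
  exact perm_all r h1 h2

theorem hn : 0 < ptabs.n := by decide +kernel

theorem main_index : (HH R Y).index = 2058 :=
  (cox_cert inv_ok layout hn defs_ok 25080 facts_upto3 fin_ok par_ok hperm_all subfix_all).1

theorem main_orbits : (HH R Y).index = 2058 ∧
    ∃ qOf : Nat → PresentedGroup R ⧸ HH R Y,
      (∀ i, i < 2058 → (MulAction.orbit (HH R Y) (qOf i)).ncard =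
        countEq (fun j => oRoot (orb j)) (oRoot (orb i)) 2058) ∧
      (∀ i j, i < 2058 → j < 2058 → MulAction.orbit (HH R Y) (qOf i) = MulAction.orbit (HH R Y) (qOf j) →
          oRoot (orb i) = oRoot (orb j)) :=
  cox_orbits inv_ok layout hn defs_ok 25080 facts_upto3 fin_ok par_ok hperm_all subfix_all orb orb_ok

end Cfsg.Agent.Helper28.He1
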